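import Cfsg.Agent.Lib.Steiner.SharpDegree11

/-!
# A faithful group of order 7920 of degree 11 is simple
-/

set_option autoImplicit false

namespace Cfsg.Agent.M12Ord46

open MulAction Cfsg.Agent.Steiner

theorem simple_of_degree11 {G : Type*} [Group G] [Finite G] {α : Type*} [MulAction G α] [Finite α]
    [FaithfulSMul G α] (hα : Nat.card α = 11) (hG : Nat.card G = 7920) : IsSimpleGroup G := by
  classical
  have hFact : Fact (Nat.Prime 11) := ⟨by norm_num⟩
  obtain ⟨P⟩ := (inferInstance : Nonempty (Sylow 11 G))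
  have hfac : (7920 : ℕ).factorization 11 = 1 := by
    rw [show (7920 : ℕ) = 11 * 720 from rfl, Nat.factorization_mul (by norm_num) (by norm_num),
      Finsupp.add_apply, Nat.Prime.factorization_self (by norm_num),
      Nat.factorization_eq_zero_of_not_dvd (by norm_num)]
  have hP : Nat.card (P : Subgroup G) = 11 := by
    rw [P.card_eq_multiplicity, hG, hfac, pow_one]
  set N := Subgroup.normalizer ((P : Subgroup G) : Set G) with hN
  obtain ⟨a, htr⟩ := prime_subgroup_transitive (P : Subgroup G) hP hα
  have hcle : Nat.card (Subgroup.centralizer ((P : Subgroup G) : Set G)) ≤ 11 :=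
    (card_centralizer_le _ a htr).trans_eq hα
  have hcyc : IsCyclic (P : Subgroup G) := isCyclic_of_prime_card hP
  have hPC : (P : Subgroup G) ≤ Subgroup.centralizer ((P : Subgroup G) : Set G) :=
    Subgroup.le_centralizer (P : Subgroup G)
  have hC : Subgroup.centralizer ((P : Subgroup G) : Set G) = (P : Subgroup G) :=
    (Subgroup.eq_of_le_of_card_ge hPC (hcle.trans_eq hP.symm)).symm
  have hN110 : Nat.card N ∣ 110 := by
    have key := Subgroup.card_dvd_of_injective _
      (QuotientGroup.kerLift_injective (Subgroup.normalizerMonoidHom (P : Subgroup G)))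
    rw [← Subgroup.index, IsCyclic.card_mulAut, hP, Subgroup.normalizerMonoidHom_ker, hC,
      Nat.totient_prime (by norm_num), ← Subgroup.relIndex] at key
    have h2 := Subgroup.relIndex_mul_index (H := (P : Subgroup G)) (K := N) Subgroup.le_normalizer
    have h3 := Subgroup.card_mul_index (P : Subgroup G)
    have h4 := Subgroup.card_mul_index N
    rw [hP, hG] at h3
    rw [hG] at h4
    have hNe : Nat.card N = 11 * (P : Subgroup G).relIndex N := by
      have hi : 0 < N.index := Nat.pos_of_ne_zero (fun h => by simp [h] at h4)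
      apply Nat.eq_of_mul_eq_mul_right hi
      rw [h4, mul_assoc, h2, h3]
    rw [hNe]
    exact Nat.mul_dvd_mul_left 11 key
  have hN55 : Nat.card N = 55 := by
    have hmod := card_sylow_modEq_one 11 G
    rw [Sylow.card_eq_index_normalizer] at hmod
    have h4 := Subgroup.card_mul_index N
    rw [hG] at h4
    have h11 : 11 ∣ Nat.card N := hP ▸ Subgroup.card_dvd_of_le Subgroup.le_normalizer
    have hle : Nat.card N ≤ 110 := Nat.le_of_dvd (by norm_num) hN110
    obtain ⟨r, hr⟩ := h11
    rw [hr] at h4 hN110 hle ⊢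
    change N.index % 11 = 1 % 11 at hmod
    have hr10 : r ∣ 10 := Nat.dvd_of_mul_dvd_mul_left (k := 11) (by norm_num) hN110
    have hr1 : r ≤ 10 := by omega
    interval_cases r <;> omega
  have : Nontrivial G := Finite.one_lt_card_iff_nontrivial.mp (by omega)
  refine ⟨fun M hM => ?_⟩
  have hM' : M.Normal := hM
  by_cases hbot : M = ⊥
  · exact Or.inl hbot
  refine Or.inr ?_
  have : IsPretransitive G α := ⟨fun x y => by
    obtain ⟨p, -, hp⟩ := htr x
    obtain ⟨q, -, hq⟩ := htr y
    exact ⟨q * p⁻¹, by rw [mul_smul, ← hp, inv_smul_smul, hq]⟩⟩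
  have hprim : IsPreprimitive G α := IsPreprimitive.of_prime_card (by rw [hα]; norm_num)
  have trans_of_normal : ∀ K : Subgroup G, K.Normal → K ≠ ⊥ → 11 ∣ Nat.card K := by
    intro K hK hK1
    have hKtr : IsPretransitive K α := by
      apply IsQuasiPreprimitive.isPretransitive_of_normal (G := G)
      intro h
      apply hK1
      rw [eq_bot_iff]
      intro k hk
      rw [Subgroup.mem_bot]
      exact eq_of_smul_eq_smul fun x : α => by
        have hx : x ∈ fixedPoints K α := h ▸ Set.mem_univ x
        rw [one_smul]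
        exact hx ⟨k, hk⟩
    have := index_stabilizer_of_transitive K a
    rw [← hα, ← this]
    exact Subgroup.index_dvd_card _
  have h11M : 11 ∣ Nat.card M := trans_of_normal M hM' hbot
  have hPM : (P : Subgroup G) ≤ M := by
    obtain ⟨Q⟩ := (inferInstance : Nonempty (Sylow 11 M))
    have hQ : 11 ∣ Nat.card (Q : Subgroup M) := Q.dvd_card_of_dvd_card h11M
    have hQG : IsPGroup 11 ((Q : Subgroup M).map M.subtype) := Q.2.map _
    obtain ⟨P', hP'⟩ := hQG.exists_le_sylow
    have hP'c : Nat.card (P' : Subgroup G) = 11 := by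
      rw [P'.card_eq_multiplicity, hG, hfac, pow_one]
    have heq : (Q : Subgroup M).map M.subtype = (P' : Subgroup G) := by
      apply Subgroup.eq_of_le_of_card_ge hP'
      rw [Subgroup.card_map_of_injective M.subtype_injective, hP'c]
      exact Nat.le_of_dvd Nat.card_pos hQ
    have hP'M : (P' : Subgroup G) ≤ M := heq ▸ Subgroup.map_subtype_le _
    obtain ⟨g, rfl⟩ := exists_smul_eq G P' P
    rw [Sylow.coe_subgroup_smul]
    intro x hx
    rw [Subgroup.mem_pointwise_smul_iff_inv_smul_mem] at hx
    have := hP'M hx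
    simpa [mul_assoc] using hM'.conj_mem _ this g
  have hfr : N ⊔ M = ⊤ := Sylow.normalizer_sup_eq_top' P hPM
  have hri : M.index = M.relIndex N := by
    rw [← Subgroup.relIndex_sup_right N M, hfr, Subgroup.relIndex_top_right]
  have hPMN : (P : Subgroup G) ≤ M ⊓ N := le_inf hPM Subgroup.le_normalizer
  have hmul : Nat.card (M ⊓ N : Subgroup G) * M.relIndex N = 55 := by
    rw [← hN55, ← Subgroup.inf_relIndex_right, ← Subgroup.relIndex_bot_left,
      Subgroup.relIndex_mul_relIndex _ _ _ bot_le inf_le_right, Subgroup.relIndex_bot_left]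
  have h11 : 11 ∣ Nat.card (M ⊓ N : Subgroup G) := hP ▸ Subgroup.card_dvd_of_le hPMN
  obtain ⟨r, hr⟩ := h11
  rw [hr] at hmul
  have hr5 : r * M.relIndex N = 5 := by
    rw [mul_assoc] at hmul; omega
  rcases (Nat.dvd_prime (by norm_num)).mp (Dvd.intro_left r hr5) with h | h
  · rw [← Subgroup.index_eq_one, hri, h]
  exfalso
  have hr1 : r = 1 := by rw [h] at hr5; omega
  subst hr1
  have heqP : M ⊓ N = (P : Subgroup G) :=
    (Subgroup.eq_of_le_of_card_ge hPMN (by rw [hr, hP])).symm
  set Q : Sylow 11 M := P.subtype hPM with hQdef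
  have hQc : Subgroup.normalizer ((Q : Subgroup M) : Set M) ≤
      Subgroup.centralizer ((Q : Subgroup M) : Set M) := by
    intro m hm
    have hmN : (m : G) ∈ (P : Subgroup G) := by
      rw [← heqP]
      refine ⟨m.2, ?_⟩
      show (m : G) ∈ N
      rw [hN, Subgroup.mem_normalizer_iff]
      intro x
      rw [Subgroup.mem_normalizer_iff] at hm
      constructor
      · intro hx
        simpa [hQdef, Sylow.coe_subtype, Subgroup.mem_subgroupOf] using (hm ⟨x, hPM hx⟩).mp
          (by simpa [hQdef, Sylow.coe_subtype, Subgroup.mem_subgroupOf] using hx)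
      · intro hx
        have hxM : x ∈ M := by
          have := hM'.conj_mem _ (hPM hx) (m : G)⁻¹
          simpa [mul_assoc] using this
        exact (hm ⟨x, hxM⟩).mpr (by simpa [hQdef, Sylow.coe_subtype, Subgroup.mem_subgroupOf] using hx)
    rw [Subgroup.mem_centralizer_iff]
    intro x hx
    apply Subtype.ext
    have := congrArg Subtype.val
      (IsMulCommutative.is_comm.comm (⟨(x : G), hx⟩ : (P : Subgroup G)) ⟨(m : G), hmN⟩)
    simpa using this
  have hK := MonoidHom.ker_transferSylow_isComplement' Q hQc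
  have hndvd := MonoidHom.not_dvd_card_ker_transferSylow Q hQc
  have hcard := hK.card_mul
  set K := (MonoidHom.transferSylow Q hQc).ker with hKdef
  have hQ11 : Nat.card (Q : Subgroup M) = 11 := by
    rw [hQdef, Sylow.coe_subtype, Nat.card_congr (Subgroup.subgroupOfEquivOfLe hPM).toEquiv, hP]
  have hM5 : Nat.card M = 1584 := by
    have := Subgroup.card_mul_index M
    rw [hri, h, hG] at this
    omega
  rw [hQ11, hM5] at hcard
  have hK144 : Nat.card K = 144 := by omega
  have hmem : ∀ x : M, x ^ 144 = 1 → x ∈ K := by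
    intro x hx
    rw [hKdef, MonoidHom.mem_ker]
    set y := MonoidHom.transferSylow Q hQc x
    have h1 : y ^ 144 = 1 := by rw [← map_pow, hx, map_one]
    have h2 : y ^ 11 = 1 := (congrArg (fun e => y ^ e) hQ11).symm.trans pow_card_eq_one'
    have h3 : y ^ (Nat.gcd 144 11) = 1 := pow_gcd_eq_one.mpr ⟨h1, h2⟩
    simpa using h3
  have hKn : (K.map M.subtype).Normal := by
    constructor
    rintro _ ⟨k, hk, rfl⟩ g
    refine ⟨⟨g * k * g⁻¹, hM'.conj_mem _ k.2 g⟩, hmem _ ?_, rfl⟩
    apply Subtype.ext
    have hk1 : (⟨k, hk⟩ : K) ^ 144 = 1 := hK144 ▸ pow_card_eq_one'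
    have hk2 : (k : G) ^ 144 = 1 := by
      simpa using congrArg (fun z : K => ((z : M) : G)) hk1
    simp [SubmonoidClass.coe_pow, conj_pow, hk2]
  have hKb : K.map M.subtype ≠ ⊥ := by
    intro e
    have := Subgroup.card_map_of_injective (K := K) M.subtype_injective
    rw [e, Subgroup.card_bot, hK144] at this
    omega
  have := trans_of_normal _ hKn hKb
  rw [Subgroup.card_map_of_injective M.subtype_injective, hK144] at this
  norm_num at this

end Cfsg.Agent.M12Ord46
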