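import Cfsg.Agent.M12Ord46.Sixth
import Cfsg.Agent.M12Ord46.Simple11
import Cfsg.Agent.Lib.Steiner.M11.Index11
import Cfsg.Agent.Lib.Golay.M12

/-!
# A simple group of order 95040 with a subgroup of index 12 is `M₁₂`
-/

set_option autoImplicit false

namespace Cfsg.Agent.M12Ord46

open MulAction Cfsg.Agent.Steiner
open scoped Pointwise

/-- In a sharply 4-transitive group of degree 11 a subgroup of order 720 fixes a point. -/
theorem exists_fixed_of_card720 {K β : Type*} [Group K] [Finite K] [Fintype β] [MulAction K β]
    (hβ : Fintype.card β = 11) (hK : Nat.card K = 7920)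
    (hsharp : ∀ x : Fin 4 ↪ β, stabilizer K x = ⊥) (M : Subgroup K) (hM : Nat.card M = 720) :
    ∃ y : β, ∀ m ∈ M, m • y = y := by
  classical
  have hfix : ∀ g : K, g ≠ 1 → (Finset.univ.filter fun x : β => g • x = x).card < 4 := by
    intro g hg
    by_contra hge
    obtain ⟨T, hTF, hT⟩ := Finset.exists_subset_card_eq (not_lt.mp hge)
    obtain ⟨x⟩ := Function.Embedding.nonempty_of_card_le (α := Fin 4) (β := T) (by simp [hT])
    have h : g ∈ stabilizer K (x.trans (Function.Embedding.subtype (· ∈ T))) := by
      show g • _ = _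
      exact DFunLike.ext _ _ fun i => (Finset.mem_filter.mp (hTF (x i).2)).2
    rw [hsharp, Subgroup.mem_bot] at h
    exact hg h
  have h3 : Fact (Nat.Prime 3) := ⟨Nat.prime_three⟩
  obtain ⟨P, hP⟩ := Sylow.exists_subgroup_card_pow_prime 3 (G := M) (n := 2) (by rw [hM]; norm_num)
  have hP9 : Nat.card P = 9 := by rw [hP]; norm_num
  have hPg : IsPGroup 3 P := IsPGroup.of_card (n := 2) hP
  -- at least two points are fixed by `P`
  set F : Finset β := Finset.univ.filter fun x => x ∈ fixedPoints P β with hF
  have hFm : F.card % 3 = 2 := by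
    have h := hPg.card_modEq_card_fixedPoints β
    rw [Nat.card_eq_fintype_card, hβ] at h
    have hc : Nat.card (fixedPoints P β) = F.card := by
      rw [Nat.card_eq_fintype_card, ← Set.toFinset_card]
      congr 1
      ext x
      simp [F]
    rw [hc] at h
    exact h.symm
  obtain ⟨g₀, hg₀⟩ : ∃ g₀ : P, g₀ ≠ 1 := by
    have : Nontrivial P := Finite.one_lt_card_iff_nontrivial.1 (by omega)
    exact exists_ne 1
  have hg₀' : ((g₀ : M) : K) ≠ 1 := fun h => hg₀ (Subtype.ext (Subtype.ext h))
  have hFlt : F.card < 4 := by
    refine lt_of_le_of_lt (Finset.card_le_card fun x hx => ?_) (hfix _ hg₀')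
    simp only [F, Finset.mem_filter, Finset.mem_univ, true_and] at hx ⊢
    exact hx g₀
  have hF2 : F.card = 2 := by omega
  -- the other orbit is regular
  have horb : ∀ x ∉ F, Nat.card (orbit P x) = 9 := by
    intro x hx
    have hst : stabilizer P x = ⊥ := by
      rw [Subgroup.eq_bot_iff_forall]
      intro g hg
      by_contra hg1
      have hg' : ((g : M) : K) ≠ 1 := fun h => hg1 (Subtype.ext (Subtype.ext h))
      have hlt := hfix _ hg'
      have hsub : insert x F ⊆ Finset.univ.filter fun y : β => ((g : M) : K) • y = y := by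
        intro y hy
        simp only [Finset.mem_filter, Finset.mem_univ, true_and]
        rcases Finset.mem_insert.mp hy with rfl | hy
        · exact hg
        · simp only [F, Finset.mem_filter, Finset.mem_univ, true_and] at hy
          exact hy g
      have h3' := Finset.card_le_card hsub
      rw [Finset.card_insert_of_notMem hx, hF2] at h3'
      -- an element of order 3 fixes 2 or at least 5 points
      set σ := MulAction.toPermHom K β ((g : M) : K) with hσ
      have hord : ∃ n, ((g : M) : K) ^ (3 ^ n) = 1 := by
        obtain ⟨n, hn⟩ := hPg g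
        exact ⟨n, by simpa using congrArg (fun z : P => ((z : M) : K)) hn⟩
      obtain ⟨n, hn⟩ := hord
      have hm := Equiv.Perm.card_compl_support_modEq (n := n) (σ := σ) (p := 3)
        (by rw [hσ, ← map_pow, hn, map_one])
      have hs : σ.supportᶜ = Finset.univ.filter fun y : β => ((g : M) : K) • y = y := by
        ext y; simp [hσ]
      rw [hs, hβ] at hm
      change _ % 3 = 11 % 3 at hm
      omega
    have h := Subgroup.card_mul_index (stabilizer P x)
    rw [index_stabilizer, hst, Subgroup.card_bot, one_mul, hP9, ← Nat.card_coe_set_eq] at h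
    exact h
  obtain ⟨a, b, hab, hFab⟩ := Finset.card_eq_two.mp hF2
  have hcompl : (Fᶜ).card = 9 := by rw [Finset.card_compl, hF2, hβ]
  obtain ⟨x₁, hx₁⟩ : Fᶜ.Nonempty := Finset.card_pos.mp (by omega)
  rw [Finset.mem_compl] at hx₁
  -- the orbit of `x₁` under `M` contains the nine points
  have hO9 : ∀ y ∉ F, y ∈ orbit M x₁ := by
    intro y hy
    have hsub : orbit P x₁ ⊆ ↑(Fᶜ) := by
      rintro z ⟨p, rfl⟩
      simp only [Finset.coe_compl, Set.mem_compl_iff, Finset.mem_coe]
      intro hz
      apply hx₁
      simp only [F, Finset.mem_filter, Finset.mem_univ, true_and] at hz ⊢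
      intro q
      have h := hz (p * q * p⁻¹)
      change (p * q * p⁻¹) • (p • x₁) = p • x₁ at h
      rw [mul_smul, mul_smul, inv_smul_smul] at h
      exact MulAction.injective p h
    have heq := Set.eq_of_subset_of_ncard_le hsub
      (by rw [Set.ncard_coe_finset, hcompl, ← Nat.card_coe_set_eq, horb x₁ hx₁])
      (Finset.finite_toSet _)
    have : y ∈ orbit P x₁ := by rw [heq]; simpa using hy
    obtain ⟨p, hp⟩ := this
    exact ⟨(p : M), hp⟩
  -- which of the two points lie in it
  by_cases ha : a ∈ orbit M x₁
  · by_cases hb : b ∈ orbit M x₁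
    · exfalso
      have huniv : orbit M x₁ = Set.univ := by
        refine Set.eq_univ_of_forall fun y => ?_
        by_cases hy : y ∈ F
        · rw [hFab] at hy
          simp only [Finset.mem_insert, Finset.mem_singleton] at hy
          rcases hy with rfl | rfl <;> assumption
        · exact hO9 y hy
      have h := Subgroup.card_mul_index (stabilizer M x₁)
      rw [index_stabilizer, huniv, Set.ncard_univ, Nat.card_eq_fintype_card (α := β), hβ, hM] at h
      omega
    · refine ⟨b, fun m hm => ?_⟩
      by_contra hne
      apply hb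
      have hmem : m • b ∈ orbit M x₁ := by
        by_cases hy : m • b ∈ F
        · rw [hFab] at hy
          simp only [Finset.mem_insert, Finset.mem_singleton] at hy
          exact (hy.resolve_right hne) ▸ ha
        · exact hO9 _ hy
      obtain ⟨k, hk⟩ := hmem
      refine ⟨(⟨m, hm⟩ : M)⁻¹ * k, ?_⟩
      change ((⟨m, hm⟩ : M)⁻¹ * k) • x₁ = b
      rw [mul_smul, show k • x₁ = m • b from hk]
      exact inv_smul_smul m b
  · by_cases hb : b ∈ orbit M x₁
    · refine ⟨a, fun m hm => ?_⟩
      by_contra hne
      apply ha
      have hmem : m • a ∈ orbit M x₁ := by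
        by_cases hy : m • a ∈ F
        · rw [hFab] at hy
          simp only [Finset.mem_insert, Finset.mem_singleton] at hy
          exact (hy.resolve_left hne) ▸ hb
        · exact hO9 _ hy
      obtain ⟨k, hk⟩ := hmem
      refine ⟨(⟨m, hm⟩ : M)⁻¹ * k, ?_⟩
      change ((⟨m, hm⟩ : M)⁻¹ * k) • x₁ = a
      rw [mul_smul, show k • x₁ = m • a from hk]
      exact inv_smul_smul m a
    · exfalso
      have : Fact (Nat.Prime 5) := ⟨by norm_num⟩
      obtain ⟨y, hy⟩ := exists_prime_orderOf_dvd_card' (G := M) 5 (by rw [hM]; norm_num)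
      have hy1 : (y : K) ≠ 1 := by
        intro h
        rw [show y = 1 from Subtype.ext h, orderOf_one] at hy
        norm_num at hy
      have hlt := hfix _ hy1
      set σ := MulAction.toPermHom K β (y : K) with hσ
      have hy5 : (y : K) ^ (5 ^ 1) = 1 := by
        rw [pow_one, ← Subgroup.coe_pow, ← hy, pow_orderOf_eq_one]; rfl
      have hm := Equiv.Perm.card_compl_support_modEq (n := 1) (σ := σ) (p := 5)
        (by rw [hσ, ← map_pow, hy5, map_one])
      have hs : σ.supportᶜ = Finset.univ.filter fun z : β => (y : K) • z = z := by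
        ext z; simp [hσ]
      rw [hs, hβ] at hm
      change _ % 5 = 11 % 5 at hm
      -- `y` fixes exactly one point, but permutes the two-point set
      have hstab : ∀ z ∈ F, (y : K) • z ∈ F := by
        intro z hz
        by_contra hzn
        obtain ⟨k, hk⟩ := hO9 _ hzn
        have : z ∈ orbit M x₁ := ⟨y⁻¹ * k, by
          change (y⁻¹ * k) • x₁ = z
          rw [mul_smul, show k • x₁ = y • z from hk, inv_smul_smul]⟩
        rw [hFab] at hz
        simp only [Finset.mem_insert, Finset.mem_singleton] at hz
        rcases hz with rfl | rfl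
        · exact ha this
        · exact hb this
      have hya : (y : K) • a = a := by
        by_contra hne
        have h1 := hstab a (by rw [hFab]; simp)
        rw [hFab] at h1
        simp only [Finset.mem_insert, Finset.mem_singleton] at h1
        have hab' : (y : K) • a = b := h1.resolve_left hne
        have h2 := hstab b (by rw [hFab]; simp)
        rw [hFab] at h2
        simp only [Finset.mem_insert, Finset.mem_singleton] at h2
        have hba : (y : K) • b = a := by
          rcases h2 with h2 | h2
          · exact h2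
          · exact absurd (MulAction.injective (y : K) (h2.trans hab'.symm)) (Ne.symm hab)
        have : ((y : K) ^ (5 ^ 1)) • a = b := by
          simp [pow_succ, mul_smul, hab', hba]
        rw [hy5, one_smul] at this
        exact hab this
      have hyb : (y : K) • b = b := by
        have h2 := hstab b (by rw [hFab]; simp)
        rw [hFab] at h2
        simp only [Finset.mem_insert, Finset.mem_singleton] at h2
        rcases h2 with h2 | h2
        · exact absurd (MulAction.injective (y : K) (h2.trans hya.symm)) (Ne.symm hab)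
        · exact h2
      have hsub : ({a, b} : Finset β) ⊆ Finset.univ.filter fun z : β => (y : K) • z = z := by
        intro z hz
        simp only [Finset.mem_insert, Finset.mem_singleton] at hz
        rcases hz with rfl | rfl <;> simp [hya, hyb]
      have := Finset.card_le_card hsub
      rw [Finset.card_pair hab] at this
      omega

/-- A simple group of order 95040 transitive on 12 points is sharply 5-transitive on them. -/
theorem exists_mulEquiv_model_of_degree12 {G : Type*} [Group G] [Finite G] (hG : Cfsg.IsM12 G)
    {α : Type*} [Fintype α] [MulAction G α] [IsPretransitive G α] [FaithfulSMul G α]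
    (hα : Fintype.card α = 12) :
    Nonempty (G ≃* Cfsg.setSystemAut (decSet 12 model12)) := by
  classical
  have hst : ∀ p : α, Nat.card (stabilizer G p) = 7920 := by
    intro p
    have h := Subgroup.card_mul_index (stabilizer G p)
    rw [index_stabilizer_of_transitive, Nat.card_eq_fintype_card (α := α), hα, hG.2] at h
    omega
  have key : ∀ p : α,
      (∀ x : Fin 4 ↪ SubMulAction.ofStabilizer G p, stabilizer (stabilizer G p) x = ⊥) := by
    intro p
    set S := stabilizer G p
    let X := SubMulAction.ofStabilizer G p
    have hX : Nat.card X = 11 := by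
      rw [SubMulAction.nat_card_ofStabilizer_eq, Nat.card_eq_fintype_card, hα]
    have hXf : FaithfulSMul S X := ⟨fun {g h} e => by
      refine Subtype.ext (eq_of_smul_eq_smul fun x : α => ?_)
      by_cases hx : x = p
      · rw [hx]; exact g.2.trans h.2.symm
      · exact congrArg Subtype.val (e ⟨x, hx⟩)⟩
    have hS : Cfsg.IsM11 S := ⟨simple_of_degree11 hX (hst p), hst p⟩
    have : Fact (Nat.Prime 11) := ⟨by norm_num⟩
    obtain ⟨P⟩ := (inferInstance : Nonempty (Sylow 11 S))
    obtain ⟨z, hz⟩ := exists_prime_orderOf_dvd_card' (G := S) 11 (by rw [hst p]; norm_num)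
    obtain ⟨a, htr⟩ := prime_subgroup_transitive (α := X) (Subgroup.zpowers z)
      (by rw [Nat.card_zpowers, hz]) hX
    have hXt : IsPretransitive S X := ⟨fun x y => by
      obtain ⟨u, -, hu⟩ := htr x
      obtain ⟨v, -, hv⟩ := htr y
      exact ⟨v * u⁻¹, by rw [mul_smul, ← hu, inv_smul_smul, hv]⟩⟩
    have := Fintype.ofFinite S
    obtain ⟨L, hL, -, hLs⟩ := Cfsg.Agent.Steiner.M11.exists_sharp4 hS
    have := Fintype.ofFinite (S ⧸ L)
    set M := stabilizer S a with hM
    have hMi : M.index = 11 := by rw [hM, index_stabilizer_of_transitive, hX]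
    have hMc : Nat.card M = 720 := by
      have h := M.card_mul_index
      rw [hMi, hst p] at h
      omega
    obtain ⟨y, hy⟩ := exists_fixed_of_card720
      (by rw [← Nat.card_eq_fintype_card, hL]) (hst p) hLs M hMc
    have hMy : M = stabilizer S y := by
      apply Subgroup.eq_of_le_of_card_ge (fun m hm => hy m hm)
      have h := Subgroup.card_mul_index (stabilizer S y)
      rw [index_stabilizer_of_transitive, hL, show Nat.card S = 7920 from hst p] at h
      have hb : Nat.card (stabilizer S y) = 720 := by omega
      exact (hb.trans hMc.symm).le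
    -- transport sharpness along the induced equivariant bijection
    have hφ : ∀ x : X, ∃ g : S, g • a = x := fun x => MulAction.exists_smul_eq S a x
    choose γ hγ using hφ
    intro x
    rw [Subgroup.eq_bot_iff_forall]
    intro g hg
    let f : Fin 4 ↪ S ⧸ L := ⟨fun i => γ (x i) • y, fun i j e => by
      apply x.injective
      have h1 : ((γ (x j))⁻¹ * γ (x i)) • y = y := by
        rw [mul_smul]; exact inv_smul_eq_iff.mpr e
      have h2 : (γ (x j))⁻¹ * γ (x i) ∈ M := hMy ▸ (h1 : _ ∈ stabilizer S y)
      have h3 : ((γ (x j))⁻¹ * γ (x i)) • a = a := h2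
      rw [mul_smul, inv_smul_eq_iff, hγ, hγ] at h3
      exact h3⟩
    have : g ∈ stabilizer S f := by
      show g • f = f
      refine DFunLike.ext _ _ fun i => ?_
      have hgi : g • x i = x i := DFunLike.congr_fun (hg : g • x = x) i
      have h2 : (γ (x i))⁻¹ * g * γ (x i) ∈ M := by
        show ((γ (x i))⁻¹ * g * γ (x i)) • a = a
        rw [mul_smul, mul_smul, hγ, hgi, inv_smul_eq_iff, hγ]
      rw [hMy] at h2
      have h3 : ((γ (x i))⁻¹ * g * γ (x i)) • y = y := h2
      rw [mul_smul, mul_smul, inv_smul_eq_iff] at h3
      exact h3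
    rw [hLs, Subgroup.mem_bot] at this
    exact this
  have hsharp : ∀ x : Fin 5 ↪ α, stabilizer G x = ⊥ := by
    intro x
    rw [Subgroup.eq_bot_iff_forall]
    intro g hg
    have hgi : ∀ i, g • x i = x i := fun i => DFunLike.congr_fun (hg : g • x = x) i
    let y : Fin 4 ↪ SubMulAction.ofStabilizer G (x 0) :=
      ⟨fun i => ⟨x i.succ, fun h => Fin.succ_ne_zero i (x.injective h)⟩,
        fun i j e => Fin.succ_injective _ (x.injective (congrArg Subtype.val e))⟩
    have hgy : (⟨g, hgi 0⟩ : stabilizer G (x 0)) ∈ stabilizer (stabilizer G (x 0)) y := by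
      show _ • y = y
      exact DFunLike.ext _ _ fun i => Subtype.ext (hgi i.succ)
    rw [key (x 0), Subgroup.mem_bot] at hgy
    exact congrArg Subtype.val hgy
  have : IsMultiplyPretransitive G (α) 5 :=
    Cfsg.Agent.Steiner.M11.isMultiplyPretransitive_of_free (by rw [hG.2, hα]; rfl) hsharp
  exact exists_mulEquiv_model hsharp hα


/-- A simple group of order 95040 with a subgroup of index 12 is sharply 5-transitive on it. -/
theorem exists_mulEquiv_model_of_index {G : Type*} [Group G] [Finite G] (hG : Cfsg.IsM12 G)
    (H : Subgroup G) (hH : H.index = 12) :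
    Nonempty (G ≃* Cfsg.setSystemAut (decSet 12 model12)) := by
  classical
  have := hG.1
  have := Fintype.ofFinite (G ⧸ H)
  have hα : Fintype.card (G ⧸ H) = 12 := by
    rw [← Nat.card_eq_fintype_card, ← Subgroup.index_eq_card, hH]
  have hfaith : FaithfulSMul G (G ⧸ H) := by
    refine ⟨fun {g h} e => ?_⟩
    have hker : H.normalCore = ⊥ := by
      rcases H.normalCore_normal.eq_bot_or_eq_top with h' | h'
      · exact h'
      · have : H = ⊤ := top_le_iff.mp (h' ▸ H.normalCore_le)
        rw [this, Subgroup.index_top] at hH
        norm_num at hH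
    rw [Subgroup.normalCore_eq_ker] at hker
    exact ((MonoidHom.ker_eq_bot_iff _).mp hker) (Equiv.ext fun x => e x)
  exact exists_mulEquiv_model_of_degree12 (α := G ⧸ H) hG hα

theorem isM12_spor : Cfsg.IsM12 Cfsg.Spor.M12 :=
  ⟨Golay.isSimpleGroup_M12, Golay.card_M12⟩

/-- A simple group of order 95040 with a subgroup of index 12 is the dodecad stabiliser. -/
theorem of_index12 {G : Type*} [Group G] [Finite G] (hG : Cfsg.IsM12 G) (H : Subgroup G)
    (hH : H.index = 12) (d : Finset Cfsg.GolayPt) (hd : d ∈ Cfsg.dodecads) :
    Nonempty (G ≃* ↥(MulAction.stabilizer Cfsg.M24 d)) := by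
  obtain ⟨a, ha, had⟩ := Golay.exists_conj12 hd
  obtain ⟨f⟩ := exists_mulEquiv_model_of_index hG H hH
  have := Golay.dSub_five_transitive
  have hP1 : IsMultiplyPretransitive Cfsg.Spor.M12 Golay.dSub 1 :=
    MulAction.isMultiplyPretransitive_of_le (n := 5) (by norm_num)
      (by rw [Golay.card_dSub]; norm_num)
  have : IsPretransitive Cfsg.Spor.M12 Golay.dSub := MulAction.is_one_pretransitive_iff.1 hP1
  obtain ⟨g⟩ := exists_mulEquiv_model_of_index isM12_spor
    (stabilizer Cfsg.Spor.M12 Golay.zeroD)
    (by rw [index_stabilizer_of_transitive, Golay.card_dSub])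
  exact ⟨f.trans (g.symm.trans (Golay.stabEquivM12 ha had).symm)⟩

end Cfsg.Agent.M12Ord46
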