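import Cfsg.Agent.Lib.Steiner.Sharp11Unique
import Cfsg.Agent.Lib.Steiner.AutSmall

/-!
# Uniqueness of the sharply 5-transitive group of degree 12
-/

set_option autoImplicit false

namespace Cfsg.Agent.M12Ord46

open MulAction Cfsg.Agent.Steiner

variable {G : Type*} [Group G] [Finite G] {α : Type*} [Fintype α] [DecidableEq α] [MulAction G α]
variable [IsMultiplyPretransitive G α 5]
variable (hsharp : ∀ x : Fin 5 ↪ α, stabilizer G x = ⊥) (hα : Fintype.card α = 12)

include hsharp in
omit [Finite G] [IsMultiplyPretransitive G α 5] [DecidableEq α] in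
theorem fixed_lt_five [DecidableEq α] {g : G} (hg : g ≠ 1) :
    (Finset.univ.filter fun x : α => g • x = x).card < 5 := by
  classical
  by_contra hge
  obtain ⟨T, hTF, hT⟩ := Finset.exists_subset_card_eq (not_lt.mp hge)
  obtain ⟨x⟩ := Function.Embedding.nonempty_of_card_le (α := Fin 5) (β := T) (by simp [hT])
  have h : g ∈ stabilizer G (x.trans (Function.Embedding.subtype (· ∈ T))) := by
    show g • _ = _
    exact DFunLike.ext _ _ fun i => (Finset.mem_filter.mp (hTF (x i).2)).2
  rw [hsharp, Subgroup.mem_bot] at h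
  exact hg h

omit [Finite G] in
theorem exists_map_five {Q : Fin 5 → α} (hQ : Function.Injective Q) {R : Fin 5 → α}
    (hR : Function.Injective R) : ∃ g : G, ∀ i, g • Q i = R i := by
  obtain ⟨g, hg⟩ := MulAction.exists_smul_eq G (⟨Q, hQ⟩ : Fin 5 ↪ α) ⟨R, hR⟩
  exact ⟨g, fun i => DFunLike.congr_fun hg i⟩

include hsharp hα in
omit [Finite G] [DecidableEq α] in
/-- A 3-cycle on three points fixing two further points fixes exactly one more. -/
theorem exists_third [DecidableEq α] {g : G} {a b c p d : α} (hab : a ≠ b) (hac : a ≠ c)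
    (hap : a ≠ p) (had : a ≠ d) (hbc : b ≠ c) (hbp : b ≠ p) (hbd : b ≠ d) (hcp : c ≠ p)
    (hcd : c ≠ d) (hpd : p ≠ d) (ga : g • a = b) (gb : g • b = c) (gc : g • c = a)
    (gp : g • p = p) (gd : g • d = d) :
    ∃ e, e ∉ ({a, b, c, p, d} : Finset α) ∧ ∀ x, g • x = x → x = p ∨ x = d ∨ x = e := by
  classical
  have hg1 : g ≠ 1 := fun h => hab (by rw [h, one_smul] at ga; exact ga)
  have h3 : g ^ 3 = 1 := by
    by_contra h
    have h5 := fixed_lt_five hsharp (g := g ^ 3) h
    have hsub : ({a, b, c, p, d} : Finset α) ⊆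
        Finset.univ.filter fun x : α => g ^ 3 • x = x := by
      intro x hx
      simp only [Finset.mem_insert, Finset.mem_singleton] at hx
      simp only [Finset.mem_filter, Finset.mem_univ, true_and]
      rcases hx with rfl | rfl | rfl | rfl | rfl <;>
        simp only [pow_succ, pow_zero, one_mul, mul_smul, ga, gb, gc, gp, gd]
    have := Finset.card_le_card hsub
    have h55 : ({a, b, c, p, d} : Finset α).card = 5 := by simp [hab, hac, hap, had, hbc, hbp,
      hbd, hcp, hcd, hpd]
    omega
  set F := Finset.univ.filter fun x : α => g • x = x with hF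
  have hmod : 12 % 3 = F.card % 3 := by
    have : Fact (Nat.Prime 3) := ⟨Nat.prime_three⟩
    have h := Equiv.Perm.card_compl_support_modEq (n := 1)
      (σ := MulAction.toPermHom G α g) (p := 3) (by rw [pow_one, ← map_pow, h3, map_one])
    have hs : (MulAction.toPermHom G α g).supportᶜ = F := by ext x; simp [F]
    rw [hs, hα] at h
    exact h.symm
  have hlt := fixed_lt_five hsharp hg1
  have hsub : ({p, d} : Finset α) ⊆ F := by
    intro x hx
    simp only [Finset.mem_insert, Finset.mem_singleton] at hx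
    rcases hx with rfl | rfl <;> simp [F, gp, gd]
  have h2 : 2 ≤ F.card := by
    have := Finset.card_le_card hsub
    simpa [hpd] using this
  have hF3 : F.card = 3 := by
    simp only [← hF] at hlt
    omega
  obtain ⟨e, he⟩ : ∃ e, F \ {p, d} = {e} := Finset.card_eq_one.mp (by
    rw [Finset.card_sdiff_of_subset hsub, hF3]; simp [hpd])
  have heF : e ∈ F \ {p, d} := by rw [he]; exact Finset.mem_singleton_self e
  simp only [F, Finset.mem_sdiff, Finset.mem_filter, Finset.mem_univ, true_and, Finset.mem_insert,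
    Finset.mem_singleton, not_or] at heF
  refine ⟨e, ?_, fun x hx => ?_⟩
  · simp only [Finset.mem_insert, Finset.mem_singleton, not_or]
    refine ⟨?_, ?_, ?_, heF.2.1, heF.2.2⟩
    · rintro rfl; exact hab (heF.1.symm.trans ga)
    · rintro rfl; exact hbc (heF.1.symm.trans gb)
    · rintro rfl; exact hac (gc.symm.trans heF.1)
  · by_cases hxp : x = p
    · exact Or.inl hxp
    by_cases hxd : x = d
    · exact Or.inr (Or.inl hxd)
    refine Or.inr (Or.inr (Finset.mem_singleton.mp ?_))
    rw [← he]
    simp [F, hx, hxp, hxd]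

include hsharp hα in
/-- The point stabilisers are simple of order 7920 and sharply 4-transitive. -/
theorem stab_facts (p : α) :
    Cfsg.IsM11 (stabilizer G p) ∧
      IsMultiplyPretransitive (stabilizer G p) (SubMulAction.ofStabilizer G p) 4 ∧
      (∀ x : Fin 4 ↪ SubMulAction.ofStabilizer G p, stabilizer (stabilizer G p) x = ⊥) := by
  classical
  have h1 : IsPretransitive G α := isPretransitive_of_is_two_pretransitive
    (h2 := isMultiplyPretransitive_of_le (n := 5) (by norm_num)
      (by rw [Nat.card_eq_fintype_card, hα]; norm_num))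
  have ht : IsMultiplyPretransitive (stabilizer G p) (SubMulAction.ofStabilizer G p) 4 :=
    SubMulAction.ofStabilizer.isMultiplyPretransitive.mp ‹_›
  have hs : ∀ x : Fin 4 ↪ SubMulAction.ofStabilizer G p, stabilizer (stabilizer G p) x = ⊥ := by
    intro x
    rw [Subgroup.eq_bot_iff_forall]
    intro g hg
    by_contra hne
    have hne' : (g : G) ≠ 1 := fun h => hne (Subtype.ext h)
    have h5 := fixed_lt_five hsharp hne'
    have hgx : ∀ i, (g : G) • (x i : α) = x i := fun i =>
      congrArg Subtype.val (DFunLike.congr_fun (hg : g • x = x) i)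
    let s : Finset α := insert p (Finset.univ.image fun i => (x i : α))
    have hsub : s ⊆ Finset.univ.filter fun y : α => (g : G) • y = y := by
      intro y hy
      simp only [s, Finset.mem_insert, Finset.mem_image, Finset.mem_univ, true_and] at hy
      simp only [Finset.mem_filter, Finset.mem_univ, true_and]
      rcases hy with rfl | ⟨i, rfl⟩
      · exact g.2
      · exact hgx i
    have hcard : s.card = 5 := by
      rw [Finset.card_insert_of_notMem, Finset.card_image_of_injective _
        (fun i j h => x.injective (Subtype.ext h))]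
      · simp
      · intro hp
        obtain ⟨i, -, hi⟩ := Finset.mem_image.mp hp
        exact (x i).2 hi
    have := Finset.card_le_card hsub
    omega
  have hc : Nat.card (SubMulAction.ofStabilizer G p) = 11 := by
    rw [SubMulAction.nat_card_ofStabilizer_eq, Nat.card_eq_fintype_card, hα]
  exact ⟨simple_of_sharp4_degree11 (α := SubMulAction.ofStabilizer G p) hc hs, ht, hs⟩

include hsharp hα in
/-- The setwise stabiliser of five points has exactly one fixed point outside them. -/
theorem exists_sixth {Q : Finset α} (hQ : Q.card = 5) :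
    ∃ e : α, e ∉ Q ∧ (∀ h : G, Q.image (h • ·) = Q → h • e = e) := by
  classical
  have hev : ∀ p ∈ Q, ∃ e : α, e ∉ Q ∧
      ∀ h : G, h • p = p → Q.image (h • ·) = Q → h • e = e := by
    intro p hp
    obtain ⟨hM, ht, hs⟩ := stab_facts hsharp hα p
    obtain ⟨a, b, c, d, hab, hac, had, hbc, hbd, hcd, habcd⟩ := Finset.card_eq_four.mp
      (show (Q.erase p).card = 4 by rw [Finset.card_erase_of_mem hp, hQ])
    have hmem : ∀ x ∈ ({a, b, c, d} : Finset α), x ≠ p ∧ x ∈ Q := fun x hx => by
      rw [← habcd] at hx; exact Finset.mem_erase.mp hx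
    let A : SubMulAction.ofStabilizer G p := ⟨a, (hmem a (by simp)).1⟩
    let B : SubMulAction.ofStabilizer G p := ⟨b, (hmem b (by simp)).1⟩
    let C : SubMulAction.ofStabilizer G p := ⟨c, (hmem c (by simp)).1⟩
    let D : SubMulAction.ofStabilizer G p := ⟨d, (hmem d (by simp)).1⟩
    have : Fintype (SubMulAction.ofStabilizer G p) := Fintype.ofFinite _
    have : Fintype (stabilizer G p) := Fintype.ofFinite _
    obtain ⟨e, he, hfix⟩ := exists_fifth hs hM
      (by rw [← Nat.card_eq_fintype_card, SubMulAction.nat_card_ofStabilizer_eq,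
        Nat.card_eq_fintype_card, hα])
      (a := A) (b := B) (c := C) (d := D)
      (fun h => hab (congrArg Subtype.val h)) (fun h => hac (congrArg Subtype.val h))
      (fun h => had (congrArg Subtype.val h)) (fun h => hbc (congrArg Subtype.val h))
      (fun h => hbd (congrArg Subtype.val h)) (fun h => hcd (congrArg Subtype.val h))
    have hQe : Q = insert p {a, b, c, d} := by rw [← habcd, Finset.insert_erase hp]
    have hep : (e : α) ≠ p := e.2
    refine ⟨e, ?_, fun h hhp hhQ => ?_⟩
    · rw [hQe]
      simp only [Finset.mem_insert, Finset.mem_singleton, not_or] at he ⊢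
      exact ⟨hep, fun h => he.1 (Subtype.ext h), fun h => he.2.1 (Subtype.ext h),
        fun h => he.2.2.1 (Subtype.ext h), fun h => he.2.2.2 (Subtype.ext h)⟩
    · have key := hfix ⟨h, hhp⟩ ?_
      · exact congrArg Subtype.val key
      apply Finset.image_injective Subtype.val_injective
      rw [Finset.image_image]
      have : Finset.image (Subtype.val ∘ fun x : SubMulAction.ofStabilizer G p =>
          (⟨h, hhp⟩ : stabilizer G p) • x) {A, B, C, D} =
          (Q.erase p).image (h • ·) := by
        rw [habcd]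
        simp only [Finset.image_insert, Finset.image_singleton]
        rfl
      rw [this, Finset.image_erase (MulAction.injective h), hhQ, hhp, habcd]
      simp only [Finset.image_insert, Finset.image_singleton]
      rfl
  choose! ev hevQ hevfix using hev
  -- the point does not depend on the chosen member of `Q`
  have hsame : ∀ p ∈ Q, ∀ d ∈ Q, ev p = ev d := by
    intro p hp d hd
    by_cases hpd : p = d
    · rw [hpd]
    obtain ⟨a, b, c, hab, hac, hbc, habc⟩ := Finset.card_eq_three.mp
      (show ((Q.erase p).erase d).card = 3 by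
        rw [Finset.card_erase_of_mem (Finset.mem_erase.mpr ⟨Ne.symm hpd, hd⟩),
          Finset.card_erase_of_mem hp, hQ])
    have hm : ∀ x ∈ ({a, b, c} : Finset α), x ≠ d ∧ x ≠ p ∧ x ∈ Q := fun x hx => by
      rw [← habc] at hx
      simpa only [Finset.mem_erase] using hx
    obtain ⟨had, hap, haQ⟩ := hm a (by simp)
    obtain ⟨hbd, hbp, hbQ⟩ := hm b (by simp)
    obtain ⟨hcd, hcp, hcQ⟩ := hm c (by simp)
    have hin : Function.Injective ![a, b, c, p, d] := by
      intro i j
      fin_cases i <;> fin_cases j <;> simp [hab, hac, hap, had, hbc, hbp, hbd, hcp, hcd, hpd,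
        Ne.symm hab, Ne.symm hac, Ne.symm hap, Ne.symm had, Ne.symm hbc, Ne.symm hbp, Ne.symm hbd,
        Ne.symm hcp, Ne.symm hcd, Ne.symm hpd]
    have hout : Function.Injective ![b, c, a, p, d] := by
      intro i j
      fin_cases i <;> fin_cases j <;> simp [hab, hac, hap, had, hbc, hbp, hbd, hcp, hcd, hpd,
        Ne.symm hab, Ne.symm hac, Ne.symm hap, Ne.symm had, Ne.symm hbc, Ne.symm hbp, Ne.symm hbd,
        Ne.symm hcp, Ne.symm hcd, Ne.symm hpd]
    obtain ⟨g, hg⟩ := exists_map_five (G := G) hin hout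
    have ga : g • a = b := hg 0
    have gb : g • b = c := hg 1
    have gc : g • c = a := hg 2
    have gp : g • p = p := hg 3
    have gd : g • d = d := hg 4
    obtain ⟨e, -, he⟩ := exists_third hsharp hα hab hac hap had hbc hbp hbd hcp hcd hpd
      ga gb gc gp gd
    have hgQ : Q.image (g • ·) = Q := by
      refine Finset.eq_of_subset_of_card_le (fun x hx => ?_)
        (by rw [Finset.card_image_of_injective _ (MulAction.injective g)])
      obtain ⟨w, hw, rfl⟩ := Finset.mem_image.mp hx
      by_cases hwp : w = p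
      · rw [hwp, gp]; exact hp
      by_cases hwd : w = d
      · rw [hwd, gd]; exact hd
      have : w ∈ ({a, b, c} : Finset α) := by
        rw [← habc]; simp [hwd, hwp, hw]
      simp only [Finset.mem_insert, Finset.mem_singleton] at this
      rcases this with rfl | rfl | rfl <;> simp [ga, gb, gc, haQ, hbQ, hcQ]
    have key : ∀ q ∈ Q, g • q = q → ev q = e := fun q hq hgq => by
      rcases he _ (hevfix q hq g hgq hgQ) with h | h | h
      · exact absurd (h ▸ hp) (hevQ q hq)
      · exact absurd (h ▸ hd) (hevQ q hq)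
      · exact h
    rw [key p hp gp, key d hd gd]
  obtain ⟨a, b, c, p, hab, hac, hap, hbc, hbp, hcp, habcp⟩ :
      ∃ a b c p, a ≠ b ∧ a ≠ c ∧ a ≠ p ∧ b ≠ c ∧ b ≠ p ∧ c ≠ p ∧
        ({a, b, c, p} : Finset α) ⊆ Q := by
    obtain ⟨T, hT, hTc⟩ := Finset.exists_subset_card_eq (s := Q) (n := 4) (by omega)
    obtain ⟨a, b, c, p, h1, h2, h3, h4, h5, h6, rfl⟩ := Finset.card_eq_four.mp hTc
    exact ⟨a, b, c, p, h1, h2, h3, h4, h5, h6, hT⟩
  have hpQ : p ∈ Q := habcp (by simp)
  refine ⟨ev p, hevQ p hpQ, fun h hhQ => ?_⟩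
  -- conjugate a 3-cycle
  have hmapQ : ∀ x ∈ Q, h • x ∈ Q := fun x hx => hhQ ▸ Finset.mem_image_of_mem _ hx
  obtain ⟨d, hd⟩ : ∃ d, Q \ {a, b, c, p} = {d} := Finset.card_eq_one.mp (by
    rw [Finset.card_sdiff_of_subset habcp, hQ]; simp [hab, hac, hap, hbc, hbp, hcp])
  have hdm : d ∈ Q \ {a, b, c, p} := by rw [hd]; exact Finset.mem_singleton_self d
  simp only [Finset.mem_sdiff, Finset.mem_insert, Finset.mem_singleton, not_or] at hdm
  obtain ⟨hdQ, hda, hdb, hdc, hdp⟩ := hdm
  have hin : Function.Injective ![a, b, c, p, d] := by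
    intro i j
    fin_cases i <;> fin_cases j <;> simp [hab, hac, hap, hbc, hbp, hcp, hda, hdb, hdc, hdp,
      Ne.symm hab, Ne.symm hac, Ne.symm hap, Ne.symm hbc, Ne.symm hbp,
      Ne.symm hcp, Ne.symm hda, Ne.symm hdb, Ne.symm hdc, Ne.symm hdp]
  have hout : Function.Injective ![b, c, a, p, d] := by
    intro i j
    fin_cases i <;> fin_cases j <;> simp [hab, hac, hap, hbc, hbp, hcp, hda, hdb, hdc, hdp,
      Ne.symm hab, Ne.symm hac, Ne.symm hap, Ne.symm hbc, Ne.symm hbp,
      Ne.symm hcp, Ne.symm hda, Ne.symm hdb, Ne.symm hdc, Ne.symm hdp]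
  obtain ⟨g, hg⟩ := exists_map_five (G := G) hin hout
  set g' := h * g * h⁻¹ with hg'
  have hconj : ∀ x : α, g' • (h • x) = h • (g • x) := fun x => by
    rw [hg', mul_smul, mul_smul, inv_smul_smul]
  have hi : ∀ {x y : α}, x ≠ y → h • x ≠ h • y := fun hxy e => hxy (MulAction.injective h e)
  obtain ⟨e, -, he⟩ := exists_third hsharp hα (g := g') (hi hab) (hi hac) (hi hap)
    (hi (Ne.symm hda)) (hi hbc) (hi hbp) (hi (Ne.symm hdb)) (hi hcp) (hi (Ne.symm hdc))
    (hi (Ne.symm hdp))
    (by rw [hconj, show g • a = b from hg 0]) (by rw [hconj, show g • b = c from hg 1])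
    (by rw [hconj, show g • c = a from hg 2]) (by rw [hconj, show g • p = p from hg 3])
    (by rw [hconj, show g • d = d from hg 4])
  have hgQ : Q.image (g • ·) = Q := by
    refine Finset.eq_of_subset_of_card_le (fun x hx => ?_)
      (by rw [Finset.card_image_of_injective _ (MulAction.injective g)])
    obtain ⟨w, hw, rfl⟩ := Finset.mem_image.mp hx
    by_cases hwT : w ∈ ({a, b, c, p} : Finset α)
    · simp only [Finset.mem_insert, Finset.mem_singleton] at hwT
      rcases hwT with rfl | rfl | rfl | rfl
      · rw [show g • w = b from hg 0]; exact habcp (by simp)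
      · rw [show g • w = c from hg 1]; exact habcp (by simp)
      · rw [show g • w = a from hg 2]; exact habcp (by simp)
      · rw [show g • w = w from hg 3]; exact hw
    · have : w = d := Finset.mem_singleton.mp (hd ▸ Finset.mem_sdiff.mpr ⟨hw, hwT⟩)
      rw [this, show g • d = d from hg 4]; exact hdQ
  have hinvQ : Q.image (h⁻¹ • ·) = Q := by
    refine Finset.eq_of_subset_of_card_le (fun x hx => ?_)
      (by rw [Finset.card_image_of_injective _ (MulAction.injective h⁻¹)])
    obtain ⟨w, hw, rfl⟩ := Finset.mem_image.mp hx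
    rw [← hhQ] at hw
    obtain ⟨v, hv, rfl⟩ := Finset.mem_image.mp hw
    rwa [inv_smul_smul]
  have hg'Q : Q.image (g' • ·) = Q := by
    have : (fun x : α => g' • x) = (fun x => h • x) ∘ (fun x => g • x) ∘ fun x => h⁻¹ • x := by
      funext x; simp [hg', mul_smul]
    rw [this, ← Finset.image_image, ← Finset.image_image, hinvQ, hgQ, hhQ]
  have k1 : g' • (h • ev p) = h • ev p := by
    rw [hconj, hevfix p hpQ g (hg 3) hgQ]
  have k2 : g' • ev (h • p) = ev (h • p) :=
    hevfix _ (hmapQ p hpQ) g' (by rw [hconj, show g • p = p from hg 3]) hg'Q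
  have hne : ∀ x, x ∉ Q → g' • x = x → x = e := fun x hxQ hx => by
    rcases he x hx with h' | h' | h'
    · exact absurd (h' ▸ hmapQ p hpQ) hxQ
    · exact absurd (h' ▸ hmapQ d hdQ) hxQ
    · exact h'
  have hnot : h • ev p ∉ Q := fun hm => by
    rw [← hhQ] at hm
    obtain ⟨w, hw, hwe⟩ := Finset.mem_image.mp hm
    exact hevQ p hpQ (MulAction.injective h hwe ▸ hw)
  rw [hne _ hnot k1, ← hne _ (hevQ _ (hmapQ p hpQ)) k2, hsame (h • p) (hmapQ p hpQ) p hpQ]

/-- The hexads: five points with the sixth point fixed by their setwise stabiliser. -/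
def hexads (G : Type*) [Group G] (α : Type*) [DecidableEq α] [MulAction G α] :
    Set (Finset α) :=
  {B | ∃ Q : Finset α, ∃ e : α, Q.card = 5 ∧ e ∉ Q ∧
    (∀ h : G, Q.image (h • ·) = Q → h • e = e) ∧ B = insert e Q}

include hsharp hα in
theorem steiner_hexads : Cfsg.IsSteinerSystem 5 6 (hexads G α) := by
  classical
  refine ⟨?_, fun s hs => ?_⟩
  · rintro B ⟨Q, e, hQ, he, -, rfl⟩
    rw [Finset.card_insert_of_notMem he, hQ]
  obtain ⟨e, he, hfix⟩ := exists_sixth hsharp hα hs
  refine ⟨insert e s, ⟨⟨s, e, hs, he, hfix, rfl⟩, Finset.subset_insert _ _⟩, ?_⟩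
  rintro B ⟨⟨Q, f, hQ, hf, hffix, rfl⟩, hsB⟩
  -- a 3-cycle with fixed points `p`, `a` in `Q`
  by_cases hfs : f ∈ s
  · obtain ⟨a, haQ, has⟩ : ∃ a ∈ Q, a ∉ s := by
      by_contra h
      push Not at h
      have : Q = s := Finset.eq_of_subset_of_card_le h (by rw [hs, hQ])
      exact hf (this ▸ hfs)
    have hQs : s = insert f (Q.erase a) := by
      refine Finset.eq_of_subset_of_card_le (fun x hx => ?_) ?_
      · rcases Finset.mem_insert.mp (hsB hx) with h | h
        · exact Finset.mem_insert.mpr (Or.inl h)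
        · exact Finset.mem_insert_of_mem (Finset.mem_erase.mpr ⟨fun e => has (e ▸ hx), h⟩)
      · rw [hs, Finset.card_insert_of_notMem (fun h => hf (Finset.mem_of_mem_erase h)),
          Finset.card_erase_of_mem haQ, hQ]
    obtain ⟨b, c, d, p, hbc, hbd, hbp, hcd, hcp, hdp, hbcdp⟩ := Finset.card_eq_four.mp
      (show (Q.erase a).card = 4 by rw [Finset.card_erase_of_mem haQ, hQ])
    have hm : ∀ x ∈ ({b, c, d, p} : Finset α), x ≠ a ∧ x ≠ f ∧ x ∈ Q := fun x hx => by
      rw [← hbcdp] at hx
      exact ⟨Finset.ne_of_mem_erase hx, fun e => hf (e ▸ Finset.mem_of_mem_erase hx),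
        Finset.mem_of_mem_erase hx⟩
    obtain ⟨hba, hbf, hbQ⟩ := hm b (by simp)
    obtain ⟨hca, hcf, hcQ⟩ := hm c (by simp)
    obtain ⟨hda, hdf, hdQ⟩ := hm d (by simp)
    obtain ⟨hpa, hpf, hpQ⟩ := hm p (by simp)
    have hin : Function.Injective ![b, c, d, p, a] := by
      intro i j
      fin_cases i <;> fin_cases j <;> simp [hbc, hbd, hbp, hcd, hcp, hdp, hba, hca, hda, hpa,
        Ne.symm hbc, Ne.symm hbd, Ne.symm hbp, Ne.symm hcd, Ne.symm hcp, Ne.symm hdp, Ne.symm hba,
        Ne.symm hca, Ne.symm hda, Ne.symm hpa]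
    have hout : Function.Injective ![c, d, b, p, a] := by
      intro i j
      fin_cases i <;> fin_cases j <;> simp [hbc, hbd, hbp, hcd, hcp, hdp, hba, hca, hda, hpa,
        Ne.symm hbc, Ne.symm hbd, Ne.symm hbp, Ne.symm hcd, Ne.symm hcp, Ne.symm hdp, Ne.symm hba,
        Ne.symm hca, Ne.symm hda, Ne.symm hpa]
    obtain ⟨g, hg⟩ := exists_map_five (G := G) hin hout
    have gb : g • b = c := hg 0
    have gc : g • c = d := hg 1
    have gd : g • d = b := hg 2
    have gp : g • p = p := hg 3
    have ga : g • a = a := hg 4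
    obtain ⟨e₁, -, hu⟩ := exists_third hsharp hα hbc hbd hbp hba hcd hcp hca hdp hda hpa
      gb gc gd gp ga
    have hQeq : Q = insert a {b, c, d, p} := by rw [← hbcdp, Finset.insert_erase haQ]
    have hgQ : Q.image (g • ·) = Q := by
      refine Finset.eq_of_subset_of_card_le (fun x hx => ?_)
        (by rw [Finset.card_image_of_injective _ (MulAction.injective g)])
      obtain ⟨w, hw, rfl⟩ := Finset.mem_image.mp hx
      rw [hQeq] at hw ⊢
      simp only [Finset.mem_insert, Finset.mem_singleton] at hw ⊢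
      rcases hw with rfl | rfl | rfl | rfl | rfl <;> simp [ga, gb, gc, gd, gp]
    have hgf := hffix g hgQ
    have hf1 : f = e₁ := by
      rcases hu f hgf with h | h | h
      · exact absurd h.symm hpf
      · exact absurd (h ▸ haQ) hf
      · exact h
    have hgs : s.image (g • ·) = s := by
      refine Finset.eq_of_subset_of_card_le (fun x hx => ?_)
        (by rw [Finset.card_image_of_injective _ (MulAction.injective g)])
      obtain ⟨w, hw, rfl⟩ := Finset.mem_image.mp hx
      rw [hQs, hbcdp] at hw ⊢
      simp only [Finset.mem_insert, Finset.mem_singleton] at hw ⊢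
      rcases hw with rfl | rfl | rfl | rfl | rfl <;> simp [hgf, gb, gc, gd, gp]
    have hea : e = a := by
      rcases hu e (hfix g hgs) with h | h | h
      · exact absurd (by rw [h, hQs, hbcdp]; simp) he
      · exact h
      · exact absurd (by rw [h, ← hf1]; exact hfs) he
    rw [hea, hQs, Finset.insert_comm, Finset.insert_erase haQ]
  · have hsQ : s = Q := Finset.eq_of_subset_of_card_le
      (fun x hx => (Finset.mem_insert.mp (hsB hx)).resolve_left (fun h => hfs (h ▸ hx)))
      (by rw [hs, hQ])
    subst hsQ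
    obtain ⟨a, b, c, p, hab, hac, hap, hbc, hbp, hcp, habcp⟩ :
        ∃ a b c p, a ≠ b ∧ a ≠ c ∧ a ≠ p ∧ b ≠ c ∧ b ≠ p ∧ c ≠ p ∧
          ({a, b, c, p} : Finset α) ⊆ s := by
      obtain ⟨T, hT, hTc⟩ := Finset.exists_subset_card_eq (s := s) (n := 4) (by omega)
      obtain ⟨a, b, c, p, h1, h2, h3, h4, h5, h6, rfl⟩ := Finset.card_eq_four.mp hTc
      exact ⟨a, b, c, p, h1, h2, h3, h4, h5, h6, hT⟩
    obtain ⟨d, hd⟩ : ∃ d, s \ {a, b, c, p} = {d} := Finset.card_eq_one.mp (by
      rw [Finset.card_sdiff_of_subset habcp, hs]; simp [hab, hac, hap, hbc, hbp, hcp])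
    have hdm : d ∈ s \ {a, b, c, p} := by rw [hd]; exact Finset.mem_singleton_self d
    simp only [Finset.mem_sdiff, Finset.mem_insert, Finset.mem_singleton, not_or] at hdm
    obtain ⟨hdQ, hda, hdb, hdc, hdp⟩ := hdm
    have hin : Function.Injective ![a, b, c, p, d] := by
      intro i j
      fin_cases i <;> fin_cases j <;> simp [hab, hac, hap, hbc, hbp, hcp, hda, hdb, hdc, hdp,
        Ne.symm hab, Ne.symm hac, Ne.symm hap, Ne.symm hbc, Ne.symm hbp,
        Ne.symm hcp, Ne.symm hda, Ne.symm hdb, Ne.symm hdc, Ne.symm hdp]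
    have hout : Function.Injective ![b, c, a, p, d] := by
      intro i j
      fin_cases i <;> fin_cases j <;> simp [hab, hac, hap, hbc, hbp, hcp, hda, hdb, hdc, hdp,
        Ne.symm hab, Ne.symm hac, Ne.symm hap, Ne.symm hbc, Ne.symm hbp,
        Ne.symm hcp, Ne.symm hda, Ne.symm hdb, Ne.symm hdc, Ne.symm hdp]
    obtain ⟨g, hg⟩ := exists_map_five (G := G) hin hout
    obtain ⟨e₁, -, hu⟩ := exists_third hsharp hα hab hac hap (Ne.symm hda) hbc hbp (Ne.symm hdb)
      hcp (Ne.symm hdc) (Ne.symm hdp) (hg 0) (hg 1) (hg 2) (hg 3) (hg 4)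
    have hgQ : s.image (g • ·) = s := by
      refine Finset.eq_of_subset_of_card_le (fun x hx => ?_)
        (by rw [Finset.card_image_of_injective _ (MulAction.injective g)])
      obtain ⟨w, hw, rfl⟩ := Finset.mem_image.mp hx
      by_cases hwT : w ∈ ({a, b, c, p} : Finset α)
      · simp only [Finset.mem_insert, Finset.mem_singleton] at hwT
        rcases hwT with rfl | rfl | rfl | rfl
        · rw [show g • w = b from hg 0]; exact habcp (by simp)
        · rw [show g • w = c from hg 1]; exact habcp (by simp)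
        · rw [show g • w = a from hg 2]; exact habcp (by simp)
        · rw [show g • w = w from hg 3]; exact hw
      · have : w = d := Finset.mem_singleton.mp (hd ▸ Finset.mem_sdiff.mpr ⟨hw, hwT⟩)
        rw [this, show g • d = d from hg 4]; exact hdQ
    have key : ∀ x, x ∉ s → g • x = x → x = e₁ := fun x hxs hx => by
      rcases hu x hx with h | h | h
      · exact absurd (h ▸ habcp (by simp)) hxs
      · exact absurd (h ▸ hdQ) hxs
      · exact h
    rw [key e he (hfix g hgQ), key f hf (hffix g hgQ)]

include hsharp hα in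
/-- A sharply 5-transitive group of degree 12 is the automorphism group of the model system. -/
theorem exists_mulEquiv_model :
    Nonempty (G ≃* Cfsg.setSystemAut (decSet 12 model12)) := by
  classical
  have hmem : ∀ g : G, MulAction.toPermHom G α g ∈ Cfsg.setSystemAut (hexads G α) := by
    intro g
    rw [mem_setSystemAut]
    refine Set.eq_of_subset_of_ncard_le ?_ ?_ (Set.toFinite _)
    swap
    · rw [Set.ncard_image_of_injective _ (Finset.image_injective (Equiv.injective _))]
    rintro _ ⟨B, ⟨Q, e, hQ, he, hfix, rfl⟩, rfl⟩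
    refine ⟨Q.image (g • ·), g • e,
      by rw [Finset.card_image_of_injective _ (MulAction.injective g), hQ],
      fun h => he ?_, fun h hh => ?_, ?_⟩
    · obtain ⟨w, hw, hwe⟩ := Finset.mem_image.mp h
      exact MulAction.injective g hwe ▸ hw
    · have h1 : Q.image ((g⁻¹ * h * g) • ·) = Q := by
        have := congrArg (fun S : Finset α => S.image (g⁻¹ • ·)) hh
        simp only [Finset.image_image] at this
        calc Q.image ((g⁻¹ * h * g) • ·)
            = Q.image ((g⁻¹ • ·) ∘ (h • ·) ∘ (g • ·)) := by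
              refine Finset.image_congr fun x _ => ?_
              simp [mul_smul]
          _ = Q.image ((g⁻¹ • ·) ∘ (g • ·)) := this
          _ = Q := by simp [Function.comp_def]
      have h2 := hfix _ h1
      rwa [mul_smul, mul_smul, inv_smul_eq_iff] at h2
    · simp only [Finset.image_insert]; rfl
  let f := (MulAction.toPermHom G α).codRestrict (Cfsg.setSystemAut (hexads G α)) hmem
  have := faithful_of_sharp (G := G) (α := α) (k := 5)
    (by rw [Nat.card_eq_fintype_card, hα]; norm_num) hsharp
  have hinj : Function.Injective f := fun x y h =>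
    MulAction.toPerm_injective (congrArg Subtype.val h)
  have hB := steiner_hexads hsharp hα
  obtain ⟨hM, -, -⟩ := aut12_facts hα hB
  have hGc : Nat.card G = 95040 :=
    (simple_of_sharp5_degree12 (α := α) (by rw [Nat.card_eq_fintype_card, hα]) hsharp).2
  let φ : G ≃* Cfsg.setSystemAut (hexads G α) :=
    MulEquiv.ofBijective f (hinj.bijective_of_nat_card_le (by rw [hGc, hM.2]))
  let a := Fintype.equivFinOfCardEq hα
  obtain ⟨e, he⟩ := normalForm12 _ (steiner_image hB a)
  rw [Set.image_image] at he
  simp only [Finset.image_image] at he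
  obtain ⟨ψ, -⟩ := exists_mulEquiv_setSystemAut (B := hexads G α) (B' := decSet 12 model12)
    (a.trans e) he
  exact ⟨φ.trans ψ⟩

end Cfsg.Agent.M12Ord46
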